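import Cfsg.Agent.H709.PB.Deg
import Cfsg.Agent.H709.PB.RegCount
import Cfsg.Agent.H133.PB.LocalCor
import Cfsg.Agent.H133.PB.Even
import Cfsg.Agent.H133.PB.SC

/-!
# S4826, the rows of the simple groups: all criteria (import this file)

Wanted for each sporadic group: `theorem row_xx {S : Type u} [Group S] (h : Cfsg.Spor.IsoXX S) {p : ℕ} (hp : p.Prime)
(hd : p ∣ Nat.card S) : Cfsg.Agent.H133.PB.Row p S`, i.e. there are a prime `q ≠ p`, `q ∣ |S|`, and an irreducible
character of the principal `q`-block (for every maximal ideal `M`, `IsPModular q M`) of degree divisible by `p`.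
It is enough to show it for the model (`Row.of_equiv`, `BD.of_equiv`). `BD p q G` is the statement for one `q`.

Criteria (namespace `Cfsg.Agent.H133.PB`, unless `H709.PB`):

* REAL  `BD.of_real χ (hr : ∀ g, (χ g).im = 0) (ho : Odd deg) (hp : p ∣ deg) : BD p 2 G`.
* CQ    `BD.of_sylow (Q : Sylow q G) (hC : IsPGroup q (centralizer Q)) χ (¬ q ∣ deg) (p ∣ deg) : BD p q G`
        (`isPGroup_centralizer_sylow` gives `Q` from one `q`-element whose centralizer is a `q`-group).
* E     `Row.of_real_odd` : a real `q`-element `g ≠ 1` (`q` odd) with centralizer of odd order: `Row 2 G`;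
        `BD.of_real_nilpotent` : a real `q`-element with `q`-nilpotent centralizer: `BD 2 q G`.
* SC    `Row.of_inverted` : `g` of order `q` (`q² ∤ |G|`, `q` odd, `q ≠ p`), real, `|C(g)| = q`, and for every
        involution `t` inverting `g`: `p ^ k ∣ |G|`, `¬ p ^ k ∣ |C(t)| ^ 2` for some `k`. `BD.of_npairs` more general.
* T3q   `BD.of_elem'` : `x` of order `p`, `p ^ 2 ∣ |G|`, `f : C(x) → K` onto, `f x = 1`, `|C(x)| = p |K|`,
        `DZB p q K`: `BD p q G` (`DZB p q K`: a character of the principal `q`-block of `K` of full `p`-part;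
        `DZB.of_real` (q = 2), `DZB.of_sylow`, `DZB.of_equiv`). `BD.of_hom` : for a `p`-subgroup `D`.
* DEG   `H709.PB.Row.of_IM hp (h : H33.IM p G) (L : List (ℕ × ℕ)) (hnd : (L.map Prod.fst).Nodup)
        (hL : ∀ x ∈ L, x.1.Prime ∧ x.1 ≠ p ∧ x.1 ∣ Nat.card G ∧ NB x.1 x.2 G)
        (hbig : Nat.card G < (p * (L.map (x.1 ^ x.2)).prod) ^ 2) : Row p G`.
        `NB q k G` : every irreducible character outside the principal `q`-block has degree divisible by `q ^ k`:
        - `NB.of_self` : `k = 1` if some nontrivial `q`-element has a centralizer which is a `q`-group;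
        - `NB.of_orders (ha : q ^ a ∣ |G|) (h : ∀ y, (orderOf y).Prime → orderOf y ≠ q → ¬ q ^ (a + 1 - k) ∣ |C(y)|)`:
          only the ORDERS of the centralizers of the elements of prime order `≠ q`;
        - `NB.of_DB (h : DB q d G) (q ^ (k + d) ∣ |G|)`, with `DB q d G` (the nonprincipal `q`-blocks have defect `≤ d`):
          `DB.of_prime_order`, `DB.of_centralizers` (from the centralizers of the elements of order `q`),
          `DB.of_isPGroup_centralizer`, `DB.of_isPGroup`, `DB.of_normal`, `DB.of_centric`, `DB.of_hom`, `DB.of_index`,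
          `DB.of_coprime_index`, `DB.of_equiv`, `DB.full`;
        - `NB.of_one_block` : only one `q`-block in every centralizer of an element of order `q`.
        `Row.of_degrees` is the same with a degree divisible by `p ^ a` instead of `IM`.
* COUNT `H709.PB.BD.of_regular_count hqp u v (hk : p ^ k ∣ |G : C(v)|)
        (h : ¬ p ^ k ∣ Nat.card {b : G // IsConj v b ∧ ¬ q ∣ orderOf (b * u)}) : BD p q G` (`q` may be 2),
        `BD.of_singular_count` (the same with `q ∣ orderOf (b * u)`), `BD.of_single_orbit` (the singular `b` form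
        one orbit under `C(u)`, `¬ p ^ k ∣ |C(u)|`). For instance `u = v` an involution of a transposition class of known
        subdegrees; nothing about characters is needed.
-/
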