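import Cfsg.Agent.H709.PB.Defect
import Cfsg.Agent.H33.RD
import Cfsg.Agent.CharDeep.PowerDegrees

/-!
# The degree criterion for S4826 (helper709)

`NB q k G` : every irreducible character outside the principal `q`-block has degree divisible by `q ^ k`.

* `NB.of_DB`, `NB.of_sylow`, `NB.of_self`, `NB.of_orders`, `NB.of_one_block`;
* `Row.of_degrees` : some degree is divisible by `p ^ a`, `1 ≤ a`, and `p ^ a * ∏ q ^ k > √|G|` over primes `q ≠ p` with
  `NB q k G`: `Row p G`.
-/

set_option autoImplicit false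

open Cfsg

namespace Cfsg.Agent.H709.PB

open Cfsg.Agent.Characters.Core Cfsg.Agent.Blocks.Basic Cfsg.Agent.Blocks.Local Cfsg.Agent.H133.PB Cfsg.Agent.H33

universe u v

/-- the irreducible characters outside the principal `q`-block have degree divisible by `q ^ k` -/
def NB (q k : ℕ) (G : Type u) [Group G] : Prop :=
  ∀ M : Ideal AlgInt, IsPModular q M → ∀ χ : IrrCharacter G, χ ∉ principalBlock M G →
    q ^ k ∣ charDegree (χ : G → ℂ)

theorem NB.mono {q k k' : ℕ} {G : Type u} [Group G] (h : NB q k G) (hk : k' ≤ k) : NB q k' G :=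
  fun M hM χ hχ => (pow_dvd_pow q hk).trans (h M hM χ hχ)

section

variable {G : Type u} [Group G] [Finite G] {q k : ℕ} [hq : Fact q.Prime]

theorem NB.of_DB {d : ℕ} (h : DB q d G) (hk : q ^ (k + d) ∣ Nat.card G) : NB q k G := by
  intro M hM χ hχ
  have h1 := h M hM χ hχ
  have h2 : k + d ≤ (Nat.card G).factorization q := (hq.out.pow_dvd_iff_le_factorization Nat.card_pos.ne').1 hk
  exact (hq.out.pow_dvd_iff_le_factorization (charDegree_pos χ.2).ne').2 (by omega)

/-- The centralizer of a Sylow `q`-subgroup is a `q`-group. -/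
theorem NB.of_sylow (Q : Sylow q G) (hC : IsPGroup q (Subgroup.centralizer ((Q : Subgroup G) : Set G))) : NB q 1 G := by
  intro M hM χ hχ
  rw [pow_one]
  by_contra h
  exact hχ (H633.Unique.mem_of_centralizer hM Q hC χ h)

/-- The centralizer of a nontrivial `q`-element is a `q`-group. -/
theorem NB.of_self {g : G} (hC : IsPGroup q (Subgroup.centralizer ({g} : Set G))) (hg : ∃ j : ℕ, orderOf g = q ^ j) :
    NB q 1 G := by
  obtain ⟨Q, hQ⟩ := isPGroup_centralizer_sylow hC hg
  exact NB.of_sylow Q hQ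

/-- **From the orders of the centralizers of the elements of prime order `r ≠ q`.** -/
theorem NB.of_orders {a : ℕ} (ha : q ^ a ∣ Nat.card G) (h : ∀ y : G, (orderOf y).Prime → orderOf y ≠ q →
    ¬ q ^ (a + 1 - k) ∣ Nat.card (Subgroup.centralizer ({y} : Set G))) : NB q k G := by
  rcases Nat.lt_or_ge a k with hak | hak
  · -- vacuous: every centralizer order is divisible by `q ^ 0`
    rcases Nat.lt_or_ge (a + 1) (k + 1) with h1 | h1
    · intro M hM χ hχ
      -- no element of prime order `r ≠ q`, so `G` is a `q`-group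
      have h2 : IsPGroup q G := by
        by_contra hG
        obtain ⟨r, hr, hrq, hrd⟩ : ∃ r : ℕ, r.Prime ∧ r ≠ q ∧ r ∣ Nat.card G := by
          by_contra hcon
          push Not at hcon
          apply hG
          rw [IsPGroup.iff_card]
          refine ⟨_, Nat.eq_prime_pow_of_unique_prime_dvd Nat.card_pos.ne' fun {r} hr hrd => ?_⟩
          by_contra hne
          exact hcon r hr hne hrd
        have : Fact r.Prime := ⟨hr⟩
        obtain ⟨y, hy⟩ := exists_prime_orderOf_dvd_card' r hrd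
        refine h y (by rw [hy]; exact hr) (by rw [hy]; exact hrq) ?_
        rw [show a + 1 - k = 0 by omega, pow_zero]
        exact one_dvd _
      exact absurd (by
        have h3 : DB q 0 G := DB.of_isPGroup h2
        have : Nonempty G := ⟨1⟩
        exact Cfsg.Agent.Blocks.UniqueBlock.sameBlock_of_centralizer_le hM (⊤ : Subgroup G) (h2.to_subgroup _) le_top
          ⟨_, isIrrCharacter_one⟩ χ) hχ
    · omega
  · refine NB.of_DB (d := a - k) (DB.of_prime_order fun y hy1 hy2 => ?_) (by rwa [Nat.add_sub_cancel' hak])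
    have h1 := h y hy1 hy2
    rw [hq.out.pow_dvd_iff_le_factorization Nat.card_pos.ne'] at h1
    omega

/-- The centralizers of the elements of order `q` have only one `q`-block. -/
theorem NB.of_one_block {a : ℕ} (ha : q ^ a ∣ Nat.card G)
    (h : ∀ x : G, orderOf x = q → DB q 0 (Subgroup.centralizer ({x} : Set G))) : NB q a G :=
  NB.of_DB (DB.of_centralizers h) (by simpa using ha)

end

theorem sq_le {G : Type u} [Group G] [Finite G] (χ : IrrCharacter G) :
    charDegree (χ : G → ℂ) ^ 2 ≤ Nat.card G := by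
  classical
  have hfin : Finite (IrrCharacter G) := finite_irr
  have := Fintype.ofFinite (IrrCharacter G)
  have := Fintype.ofFinite G
  have hsq : ∑ χ : IrrCharacter G, charDegree (χ : G → ℂ) ^ 2 = Nat.card G := by
    have h := Cfsg.Agent.CharDeep.PowerDegrees.sum_sq (G := G)
    have h2 : ∑ χ : IrrCharacter G, (χ : G → ℂ) 1 ^ 2 =
        ((∑ χ : IrrCharacter G, charDegree (χ : G → ℂ) ^ 2 : ℕ) : ℂ) := by
      push_cast
      refine Finset.sum_congr rfl fun χ _ => ?_
      rw [irr_one_eq_charDegree χ.2]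
    rw [h2] at h
    exact_mod_cast h
  rw [← hsq]
  exact Finset.single_le_sum (f := fun χ : IrrCharacter G => charDegree (χ : G → ℂ) ^ 2)
    (fun _ _ => Nat.zero_le _) (Finset.mem_univ χ)

/-- **The degree criterion.** -/
theorem Row.of_degrees {G : Type u} [Group G] [Finite G] {p : ℕ} (hp : p.Prime) {a : ℕ} (ha : a ≠ 0)
    (h : ∃ χ : IrrCharacter G, p ^ a ∣ charDegree (χ : G → ℂ)) (L : List (ℕ × ℕ)) (hnd : (L.map Prod.fst).Nodup)
    (hL : ∀ x ∈ L, x.1.Prime ∧ x.1 ≠ p ∧ x.1 ∣ Nat.card G ∧ NB x.1 x.2 G)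
    (hbig : Nat.card G < (p ^ a * (L.map fun x => x.1 ^ x.2).prod) ^ 2) : Row p G := by
  classical
  by_contra hrow
  obtain ⟨χ, hχ⟩ := h
  have hdvd : ∀ x ∈ L, x.1 ^ x.2 ∣ charDegree (χ : G → ℂ) := by
    intro x hx
    obtain ⟨h1, h2, h3, h4⟩ := hL x hx
    have : Fact x.1.Prime := ⟨h1⟩
    obtain ⟨M, hM⟩ := Cfsg.Agent.Blocks.Knorr.exists_isPModular x.1
    refine h4 M hM χ fun hmem => hrow ?_
    exact Row.intro h1 h2 h3 (BD.of_one hM hmem ((dvd_pow_self p ha).trans hχ))
  have key : ∀ L : List (ℕ × ℕ), (L.map Prod.fst).Nodup → (∀ x ∈ L, x.1.Prime ∧ x.1 ≠ p) →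
      (∀ x ∈ L, x.1 ^ x.2 ∣ charDegree (χ : G → ℂ)) →
      p ^ a * (L.map fun x => x.1 ^ x.2).prod ∣ charDegree (χ : G → ℂ) := by
    intro L
    induction L with
    | nil =>
      intro _ _ _
      simpa using hχ
    | cons x L ih =>
      intro hnd h1 h2
      rw [List.map_cons, List.nodup_cons] at hnd
      have h3 := ih hnd.2 (fun y hy => h1 y (List.mem_cons_of_mem _ hy))
        (fun y hy => h2 y (List.mem_cons_of_mem _ hy))
      rw [List.map_cons, List.prod_cons, mul_left_comm]
      refine Nat.Coprime.mul_dvd_of_dvd_of_dvd ?_ (h2 x List.mem_cons_self) h3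
      have hx := h1 x List.mem_cons_self
      apply Nat.Coprime.pow_left
      refine Nat.Coprime.mul_right ?_ ?_
      · exact Nat.Coprime.pow_right _ ((Nat.coprime_primes hx.1 hp).2 hx.2)
      · rw [Nat.coprime_comm]
        apply Nat.Coprime.symm
        refine Nat.coprime_list_prod_right_iff.2 ?_
        intro n hn
        obtain ⟨y, hy, rfl⟩ := List.mem_map.1 hn
        refine Nat.Coprime.pow_right _ ((Nat.coprime_primes hx.1 (h1 y (List.mem_cons_of_mem _ hy)).1).2 ?_)
        intro he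
        exact hnd.1 (List.mem_map.2 ⟨y, hy, he.symm⟩)
  have h1 := key L hnd (fun x hx => ⟨(hL x hx).1, (hL x hx).2.1⟩) hdvd
  have h2 := Nat.le_of_dvd (charDegree_pos χ.2) h1
  have h3 := sq_le χ
  have h4 := Nat.pow_le_pow_left h2 2
  omega

/-- **The degree criterion**, from `IM p G`. -/
theorem Row.of_IM {G : Type u} [Group G] [Finite G] {p : ℕ} (hp : p.Prime) (h : IM p G) (L : List (ℕ × ℕ))
    (hnd : (L.map Prod.fst).Nodup) (hL : ∀ x ∈ L, x.1.Prime ∧ x.1 ≠ p ∧ x.1 ∣ Nat.card G ∧ NB x.1 x.2 G)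
    (hbig : Nat.card G < (p * (L.map fun x => x.1 ^ x.2).prod) ^ 2) : Row p G := by
  obtain ⟨χ, hχ⟩ := h
  exact Row.of_degrees hp one_ne_zero ⟨χ, by rwa [pow_one]⟩ L hnd hL (by rwa [pow_one])

end Cfsg.Agent.H709.PB
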